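-- Stabilizer chain for MWE8C; generated, checked by the kernel.
import Cfsg.Agent.Lib.Compute.TC.MWE8.Final
import Cfsg.Agent.Lib.Compute.TCChain
set_option autoImplicit false
set_option maxRecDepth 1000000

open Cfsg.Agent.Lib.Compute.ToddCoxeterCore Cfsg.Agent.Lib.Compute.ToddCoxeterPresented Cfsg.Agent.Lib.Compute.TCFast Cfsg.Agent.Lib.Compute.TCChain

namespace Cfsg.Agent.Lib.Compute.TC.MWE8C

/-- the first level of the chain -/
def next0 : List PE := [.mul (.inv (.mul (.lt (nat_lit 6)) (.mul (.lt (nat_lit 5)) (.mul (.lt (nat_lit 4)) (.mul (.lt (nat_lit 2)) (.mul (.lt (nat_lit 3)) (.mul (.lt (nat_lit 1)) (.mul (.lt (nat_lit 2)) (.mul (.lt (nat_lit 7)) (.mul (.lt (nat_lit 0)) (.mul (.lt (nat_lit 1)) (.mul (.lt (nat_lit 2)) (.mul (.lt (nat_lit 3)) (.mul (.lt (nat_lit 4)) (.mul (.lt (nat_lit 5)) (.lt (nat_lit 6))))))))))))))))) (.mul (.lt (nat_lit 1)) (.mul (.lt (nat_lit 6)) (.mul (.lt (nat_lit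 5)) (.mul (.lt (nat_lit 4)) (.mul (.lt (nat_lit 2)) (.mul (.lt (nat_lit 3)) (.mul (.lt (nat_lit 1)) (.mul (.lt (nat_lit 2)) (.mul (.lt (nat_lit 7)) (.mul (.lt (nat_lit 0)) (.mul (.lt (nat_lit 1)) (.mul (.lt (nat_lit 2)) (.mul (.lt (nat_lit 3)) (.mul (.lt (nat_lit 4)) (.mul (.lt (nat_lit 5)) (.lt (nat_lit 6))))))))))))))))), .mul (.inv (.mul (.lt (nat_lit 5)) (.mul (.lt (nat_lit 4)) (.mul (.lt (nat_lit 3)) (.mul (.lt (nat_lit 2)) (.mul (.lt (nat_lit 7)) (.mul (.lt (nat_lit 1)) (.mul (.lt (nat_lit 2)) (.mul (.lt (nat_lit 3)) (.mul (.lt (nat_lit 0)) (.mul (.lt (nat_lit 1)) (.mul (.lt (nat_lit 2)) (.mul (.lt (nat_lit 7)) (.mul (.lt (nat_lit 6)) (.mul (.lt (nat_lit 4)) (.mul (.lt (nat_lit 5)) (.mul (.lt (nat_lit 3)) (.mul (.lt (nat_lit 4)) (.mul (.lt (nat_lit 2)) (.mul (.lt (nat_lit 3)) (.mul (.lt (nat_lit 1)) (.mul (.lt (nat_lit 2)) (.mul (.lt (nat_lit 7)) (.mul (.lt (nat_lit 0)) (.mul (.lt (nat_lit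 1)) (.mul (.lt (nat_lit 2)) (.mul (.lt (nat_lit 3)) (.mul (.lt (nat_lit 4)) (.mul (.lt (nat_lit 5)) (.lt (nat_lit 6))))))))))))))))))))))))))))))) (.mul (.lt (nat_lit 7)) (.mul (.lt (nat_lit 5)) (.mul (.lt (nat_lit 4)) (.mul (.lt (nat_lit 3)) (.mul (.lt (nat_lit 2)) (.mul (.lt (nat_lit 7)) (.mul (.lt (nat_lit 1)) (.mul (.lt (nat_lit 2)) (.mul (.lt (nat_lit 3)) (.mul (.lt (nat_lit 0)) (.mul (.lt (nat_lit 1)) (.mul (.lt (nat_lit 2)) (.mul (.lt (nat_lit 7)) (.mul (.lt (nat_lit 6)) (.mul (.lt (nat_lit 4)) (.mul (.lt (nat_lit 5)) (.mul (.lt (nat_lit 3)) (.mul (.lt (nat_lit 4)) (.mul (.lt (nat_lit 2)) (.mul (.lt (nat_lit 3)) (.mul (.lt (nat_lit 1)) (.mul (.lt (nat_lit 2)) (.mul (.lt (nat_lit 7)) (.mul (.lt (nat_lit 0)) (.mul (.lt (nat_lit 1)) (.mul (.lt (nat_lit 2)) (.mul (.lt (nat_lit 3)) (.mul (.lt (nat_lit 4)) (.mul (.lt (nat_lit 5)) (.lt (nat_lit 6))))))))))))))))))))))))))))))), .mul (.inv (.mul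 (.lt (nat_lit 7)) (.mul (.lt (nat_lit 2)) (.mul (.lt (nat_lit 3)) (.mul (.lt (nat_lit 4)) (.mul (.lt (nat_lit 1)) (.mul (.lt (nat_lit 2)) (.mul (.lt (nat_lit 3)) (.mul (.lt (nat_lit 0)) (.mul (.lt (nat_lit 1)) (.mul (.lt (nat_lit 2)) (.mul (.lt (nat_lit 7)) (.mul (.lt (nat_lit 5)) (.mul (.lt (nat_lit 6)) (.mul (.lt (nat_lit 4)) (.mul (.lt (nat_lit 5)) (.mul (.lt (nat_lit 3)) (.mul (.lt (nat_lit 4)) (.mul (.lt (nat_lit 2)) (.mul (.lt (nat_lit 3)) (.mul (.lt (nat_lit 1)) (.mul (.lt (nat_lit 2)) (.mul (.lt (nat_lit 7)) (.mul (.lt (nat_lit 0)) (.mul (.lt (nat_lit 1)) (.mul (.lt (nat_lit 2)) (.mul (.lt (nat_lit 3)) (.mul (.lt (nat_lit 4)) (.mul (.lt (nat_lit 5)) (.lt (nat_lit 6))))))))))))))))))))))))))))))) (.mul (.lt (nat_lit 6)) (.mul (.lt (nat_lit 7)) (.mul (.lt (nat_lit 2)) (.mul (.lt (nat_lit 3)) (.mul (.lt (nat_lit 4)) (.mul (.lt (nat_lit 1)) (.mul (.lt (nat_lit 2)) (.mul (.lt (nat_lit 3)) (.mul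 (.lt (nat_lit 0)) (.mul (.lt (nat_lit 1)) (.mul (.lt (nat_lit 2)) (.mul (.lt (nat_lit 7)) (.mul (.lt (nat_lit 5)) (.mul (.lt (nat_lit 6)) (.mul (.lt (nat_lit 4)) (.mul (.lt (nat_lit 5)) (.mul (.lt (nat_lit 3)) (.mul (.lt (nat_lit 4)) (.mul (.lt (nat_lit 2)) (.mul (.lt (nat_lit 3)) (.mul (.lt (nat_lit 1)) (.mul (.lt (nat_lit 2)) (.mul (.lt (nat_lit 7)) (.mul (.lt (nat_lit 0)) (.mul (.lt (nat_lit 1)) (.mul (.lt (nat_lit 2)) (.mul (.lt (nat_lit 3)) (.mul (.lt (nat_lit 4)) (.mul (.lt (nat_lit 5)) (.lt (nat_lit 6))))))))))))))))))))))))))))))), .mul (.inv (.mul (.lt (nat_lit 7)) (.mul (.lt (nat_lit 2)) (.mul (.lt (nat_lit 3)) (.mul (.lt (nat_lit 4)) (.mul (.lt (nat_lit 5)) (.lt (nat_lit 6)))))))) (.mul (.lt (nat_lit 6)) (.mul (.lt (nat_lit 7)) (.mul (.lt (nat_lit 2)) (.mul (.lt (nat_lit 3)) (.mul (.lt (nat_lit 4)) (.mul (.lt (nat_lit 5)) (.lt (nat_lit 6)))))))), .mul (.inv (.mul (.lt (nat_lit 3)) (.mul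 (.lt (nat_lit 2)) (.mul (.lt (nat_lit 7)) (.mul (.lt (nat_lit 1)) (.mul (.lt (nat_lit 2)) (.mul (.lt (nat_lit 3)) (.mul (.lt (nat_lit 0)) (.mul (.lt (nat_lit 1)) (.mul (.lt (nat_lit 2)) (.mul (.lt (nat_lit 7)) (.mul (.lt (nat_lit 6)) (.mul (.lt (nat_lit 4)) (.mul (.lt (nat_lit 5)) (.mul (.lt (nat_lit 3)) (.mul (.lt (nat_lit 4)) (.mul (.lt (nat_lit 2)) (.mul (.lt (nat_lit 3)) (.mul (.lt (nat_lit 1)) (.mul (.lt (nat_lit 2)) (.mul (.lt (nat_lit 7)) (.mul (.lt (nat_lit 0)) (.mul (.lt (nat_lit 1)) (.mul (.lt (nat_lit 2)) (.mul (.lt (nat_lit 3)) (.mul (.lt (nat_lit 4)) (.mul (.lt (nat_lit 5)) (.lt (nat_lit 6))))))))))))))))))))))))))))) (.mul (.lt (nat_lit 0)) (.mul (.lt (nat_lit 3)) (.mul (.lt (nat_lit 2)) (.mul (.lt (nat_lit 7)) (.mul (.lt (nat_lit 1)) (.mul (.lt (nat_lit 2)) (.mul (.lt (nat_lit 3)) (.mul (.lt (nat_lit 0)) (.mul (.lt (nat_lit 1)) (.mul (.lt (nat_lit 2)) (.mul (.lt (nat_lit 7)) (.mul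 (.lt (nat_lit 6)) (.mul (.lt (nat_lit 4)) (.mul (.lt (nat_lit 5)) (.mul (.lt (nat_lit 3)) (.mul (.lt (nat_lit 4)) (.mul (.lt (nat_lit 2)) (.mul (.lt (nat_lit 3)) (.mul (.lt (nat_lit 1)) (.mul (.lt (nat_lit 2)) (.mul (.lt (nat_lit 7)) (.mul (.lt (nat_lit 0)) (.mul (.lt (nat_lit 1)) (.mul (.lt (nat_lit 2)) (.mul (.lt (nat_lit 3)) (.mul (.lt (nat_lit 4)) (.mul (.lt (nat_lit 5)) (.lt (nat_lit 6))))))))))))))))))))))))))))), .mul (.inv (.mul (.lt (nat_lit 5)) (.mul (.lt (nat_lit 3)) (.mul (.lt (nat_lit 4)) (.mul (.lt (nat_lit 2)) (.mul (.lt (nat_lit 3)) (.mul (.lt (nat_lit 0)) (.mul (.lt (nat_lit 1)) (.mul (.lt (nat_lit 2)) (.mul (.lt (nat_lit 7)) (.mul (.lt (nat_lit 2)) (.mul (.lt (nat_lit 3)) (.mul (.lt (nat_lit 4)) (.mul (.lt (nat_lit 1)) (.mul (.lt (nat_lit 2)) (.mul (.lt (nat_lit 3)) (.mul (.lt (nat_lit 0)) (.mul (.lt (nat_lit 1)) (.mul (.lt (nat_lit 2)) (.mul (.lt (nat_lit 7)) (.mul (.lt (nat_lit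 5)) (.mul (.lt (nat_lit 6)) (.mul (.lt (nat_lit 4)) (.mul (.lt (nat_lit 5)) (.mul (.lt (nat_lit 3)) (.mul (.lt (nat_lit 4)) (.mul (.lt (nat_lit 2)) (.mul (.lt (nat_lit 3)) (.mul (.lt (nat_lit 1)) (.mul (.lt (nat_lit 2)) (.mul (.lt (nat_lit 7)) (.mul (.lt (nat_lit 0)) (.mul (.lt (nat_lit 1)) (.mul (.lt (nat_lit 2)) (.mul (.lt (nat_lit 3)) (.mul (.lt (nat_lit 4)) (.mul (.lt (nat_lit 5)) (.lt (nat_lit 6))))))))))))))))))))))))))))))))))))))) (.mul (.lt (nat_lit 7)) (.mul (.lt (nat_lit 5)) (.mul (.lt (nat_lit 3)) (.mul (.lt (nat_lit 4)) (.mul (.lt (nat_lit 2)) (.mul (.lt (nat_lit 3)) (.mul (.lt (nat_lit 0)) (.mul (.lt (nat_lit 1)) (.mul (.lt (nat_lit 2)) (.mul (.lt (nat_lit 7)) (.mul (.lt (nat_lit 2)) (.mul (.lt (nat_lit 3)) (.mul (.lt (nat_lit 4)) (.mul (.lt (nat_lit 1)) (.mul (.lt (nat_lit 2)) (.mul (.lt (nat_lit 3)) (.mul (.lt (nat_lit 0)) (.mul (.lt (nat_lit 1)) (.mul (.lt (nat_lit 2)) (.mul (.lt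 (nat_lit 7)) (.mul (.lt (nat_lit 5)) (.mul (.lt (nat_lit 6)) (.mul (.lt (nat_lit 4)) (.mul (.lt (nat_lit 5)) (.mul (.lt (nat_lit 3)) (.mul (.lt (nat_lit 4)) (.mul (.lt (nat_lit 2)) (.mul (.lt (nat_lit 3)) (.mul (.lt (nat_lit 1)) (.mul (.lt (nat_lit 2)) (.mul (.lt (nat_lit 7)) (.mul (.lt (nat_lit 0)) (.mul (.lt (nat_lit 1)) (.mul (.lt (nat_lit 2)) (.mul (.lt (nat_lit 3)) (.mul (.lt (nat_lit 4)) (.mul (.lt (nat_lit 5)) (.lt (nat_lit 6))))))))))))))))))))))))))))))))))))))), .mul (.inv (.mul (.lt (nat_lit 5)) (.mul (.lt (nat_lit 4)) (.mul (.lt (nat_lit 3)) (.mul (.lt (nat_lit 2)) (.mul (.lt (nat_lit 7)) (.mul (.lt (nat_lit 1)) (.mul (.lt (nat_lit 2)) (.mul (.lt (nat_lit 3)) (.mul (.lt (nat_lit 0)) (.mul (.lt (nat_lit 1)) (.mul (.lt (nat_lit 2)) (.mul (.lt (nat_lit 7)) (.mul (.lt (nat_lit 6)) (.mul (.lt (nat_lit 4)) (.mul (.lt (nat_lit 5)) (.mul (.lt (nat_lit 3)) (.mul (.lt (nat_lit 4)) (.mul (.lt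 (nat_lit 2)) (.mul (.lt (nat_lit 3)) (.mul (.lt (nat_lit 1)) (.mul (.lt (nat_lit 2)) (.mul (.lt (nat_lit 7)) (.mul (.lt (nat_lit 0)) (.mul (.lt (nat_lit 1)) (.mul (.lt (nat_lit 2)) (.mul (.lt (nat_lit 3)) (.mul (.lt (nat_lit 4)) (.mul (.lt (nat_lit 5)) (.lt (nat_lit 6))))))))))))))))))))))))))))))) (.mul (.lt (nat_lit 3)) (.mul (.lt (nat_lit 5)) (.mul (.lt (nat_lit 4)) (.mul (.lt (nat_lit 3)) (.mul (.lt (nat_lit 2)) (.mul (.lt (nat_lit 7)) (.mul (.lt (nat_lit 1)) (.mul (.lt (nat_lit 2)) (.mul (.lt (nat_lit 3)) (.mul (.lt (nat_lit 0)) (.mul (.lt (nat_lit 1)) (.mul (.lt (nat_lit 2)) (.mul (.lt (nat_lit 7)) (.mul (.lt (nat_lit 6)) (.mul (.lt (nat_lit 4)) (.mul (.lt (nat_lit 5)) (.mul (.lt (nat_lit 3)) (.mul (.lt (nat_lit 4)) (.mul (.lt (nat_lit 2)) (.mul (.lt (nat_lit 3)) (.mul (.lt (nat_lit 1)) (.mul (.lt (nat_lit 2)) (.mul (.lt (nat_lit 7)) (.mul (.lt (nat_lit 0)) (.mul (.lt (nat_lit 1)) (.mul (.lt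 (nat_lit 2)) (.mul (.lt (nat_lit 3)) (.mul (.lt (nat_lit 4)) (.mul (.lt (nat_lit 5)) (.lt (nat_lit 6)))))))))))))))))))))))))))))))]

/-- the orbit table of level 0 -/
noncomputable def tb0 : TT := .leaf (nat_lit 0x150200007c0000db140600007b0000d7130000007a0000d212050000790000cd11010000760000c911050000760000c710010000730000c410000000750000c20f060000720000be0f010000700000bd0f000000710000bc0e0400006e0000b90e0600006e0000b70e0000006c0000b60d0400006b0000b40d0500006a0000b20d0600006a0000b10d060000690000b00c050000670000ae0c030000640000ac0c050000640000ab0c060000640000aa0b030000600000a70b050000600000a60b0300005f0000a50b0400005e0000a40b0600005e0000a30a0300005c0000a10a0300005a00009f0a0400005900009e0a0400005800009d0a0000005800009c090300005600009a090400005500009909030000540000980904000053000097090000005300009609050000520000950803000050000093080400004f000092080500004e000091080400004d000090080500004c00008f080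200004c00008e070300004900008c070400004800008b070500004700008a070200004700008907050000460000880701000047000087060200004300008506030000420000840604000041000083060500004000008206000000430000810601000040000080050300003e00007e070200003d00007d050600003c00007c050400003b00007b050500003a00007a050000003900007907010000380000780404000037000076060600003600007504000000350000740405000034000073040000003300007204060000350000710600000032000070030500003100006e050000003000006d030500002f00006c030000002d00006b030600002f00006a050600002e000069020000002b000067040500002a00006602040000280000650405000027000064020600002800006304060000270000620106000025000060030400002300005f050500002200005e010300002500005d030400002000005c030600002000005b0000000000000059020600001e000058020300001f000057040400001c000056040400001b000055020300001e00005401020000250000510101000025000050050400001700004f030300001a00004e030300001900004d020200001e00004a020000001e000049060600001d0000480403000015000047040500001b0000460302000019000043030500001900004205060000170000410505000017000040040400001400003f040600001500003c040500001500003b060600001200003a050400000f000038050600000f000035070000000e000034060600000d000031060000000c00002f080100000b00002e070000000a00002b07010000090000290805000007000028080100000700002509050000040000220a0000000300001f0b0600000200001b0c02000001000017)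
/-- level 0 -/
noncomputable def lv0 : Lvl where
  b := nat_lit 89
  n := nat_lit 126
  t := fun k => TT.fld tb0 (nat_lit 64) (nat_lit 255) (nat_lit 18446744073709551615) k
  next := [.mul (.inv (.mul (.lt (nat_lit 5)) (.mul (.lt (nat_lit 0)) (.mul (.lt (nat_lit 6)) (.lt (nat_lit 3)))))) (.mul (.lt (nat_lit 0)) (.mul (.lt (nat_lit 5)) (.mul (.lt (nat_lit 0)) (.mul (.lt (nat_lit 6)) (.lt (nat_lit 3)))))), .mul (.inv (.mul (.lt (nat_lit 0)) (.mul (.lt (nat_lit 6)) (.mul (.lt (nat_lit 5)) (.mul (.lt (nat_lit 4)) (.mul (.lt (nat_lit 0)) (.mul (.lt (nat_lit 5)) (.mul (.lt (nat_lit 2)) (.mul (.lt (nat_lit 1)) (.mul (.lt (nat_lit 0)) (.mul (.lt (nat_lit 6)) (.mul (.lt (nat_lit 0)) (.mul (.lt (nat_lit 5)) (.mul (.lt (nat_lit 4)) (.lt (nat_lit 3)))))))))))))))) (.mul (.lt (nat_lit 5)) (.mul (.lt (nat_lit 0)) (.mul (.lt (nat_lit 6)) (.mul (.lt (nat_lit 5)) (.mul (.lt (nat_lit 4)) (.mul (.lt (nat_lit 0))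 (.mul (.lt (nat_lit 5)) (.mul (.lt (nat_lit 2)) (.mul (.lt (nat_lit 1)) (.mul (.lt (nat_lit 0)) (.mul (.lt (nat_lit 6)) (.mul (.lt (nat_lit 0)) (.mul (.lt (nat_lit 5)) (.mul (.lt (nat_lit 4)) (.lt (nat_lit 3)))))))))))))))), .mul (.inv (.mul (.lt (nat_lit 6)) (.mul (.lt (nat_lit 0)) (.mul (.lt (nat_lit 5)) (.mul (.lt (nat_lit 1)) (.mul (.lt (nat_lit 0)) (.mul (.lt (nat_lit 6)) (.mul (.lt (nat_lit 4)) (.mul (.lt (nat_lit 5)) (.mul (.lt (nat_lit 3)) (.mul (.lt (nat_lit 4)) (.mul (.lt (nat_lit 0)) (.mul (.lt (nat_lit 5)) (.mul (.lt (nat_lit 2)) (.mul (.lt (nat_lit 1)) (.mul (.lt (nat_lit 0)) (.mul (.lt (nat_lit 6)) (.mul (.lt (nat_lit 0)) (.mul (.lt (nat_lit 5)) (.mul (.lt (nat_lit 4)) (.lt (nat_lit 3)))))))))))))))))))))) (.mul (.lt (nat_lit 5)) (.mul (.lt (nat_lit 6)) (.mul (.lt (nat_lit 0)) (.mul (.lt (nat_lit 5)) (.mul (.lt (nat_lit 1)) (.mul (.lt (nat_lit 0)) (.mul (.lt (nat_lit 6)) (.mul (.lt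 (nat_lit 4)) (.mul (.lt (nat_lit 5)) (.mul (.lt (nat_lit 3)) (.mul (.lt (nat_lit 4)) (.mul (.lt (nat_lit 0)) (.mul (.lt (nat_lit 5)) (.mul (.lt (nat_lit 2)) (.mul (.lt (nat_lit 1)) (.mul (.lt (nat_lit 0)) (.mul (.lt (nat_lit 6)) (.mul (.lt (nat_lit 0)) (.mul (.lt (nat_lit 5)) (.mul (.lt (nat_lit 4)) (.lt (nat_lit 3)))))))))))))))))))))), .mul (.inv (.mul (.lt (nat_lit 6)) (.mul (.lt (nat_lit 0)) (.mul (.lt (nat_lit 5)) (.mul (.lt (nat_lit 1)) (.mul (.lt (nat_lit 0)) (.mul (.lt (nat_lit 6)) (.mul (.lt (nat_lit 4)) (.mul (.lt (nat_lit 5)) (.mul (.lt (nat_lit 3)) (.mul (.lt (nat_lit 4)) (.mul (.lt (nat_lit 0)) (.mul (.lt (nat_lit 5)) (.mul (.lt (nat_lit 2)) (.mul (.lt (nat_lit 1)) (.mul (.lt (nat_lit 0)) (.mul (.lt (nat_lit 6)) (.mul (.lt (nat_lit 0)) (.mul (.lt (nat_lit 5)) (.mul (.lt (nat_lit 4)) (.lt (nat_lit 3)))))))))))))))))))))) (.mul (.lt (nat_lit 3)) (.mul (.lt (nat_lit 6)) (.mul (.lt (nat_lit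 0)) (.mul (.lt (nat_lit 5)) (.mul (.lt (nat_lit 1)) (.mul (.lt (nat_lit 0)) (.mul (.lt (nat_lit 6)) (.mul (.lt (nat_lit 4)) (.mul (.lt (nat_lit 5)) (.mul (.lt (nat_lit 3)) (.mul (.lt (nat_lit 4)) (.mul (.lt (nat_lit 0)) (.mul (.lt (nat_lit 5)) (.mul (.lt (nat_lit 2)) (.mul (.lt (nat_lit 1)) (.mul (.lt (nat_lit 0)) (.mul (.lt (nat_lit 6)) (.mul (.lt (nat_lit 0)) (.mul (.lt (nat_lit 5)) (.mul (.lt (nat_lit 4)) (.lt (nat_lit 3)))))))))))))))))))))), .mul (.inv (.mul (.lt (nat_lit 4)) (.mul (.lt (nat_lit 5)) (.mul (.lt (nat_lit 3)) (.mul (.lt (nat_lit 4)) (.mul (.lt (nat_lit 0)) (.mul (.lt (nat_lit 5)) (.mul (.lt (nat_lit 2)) (.mul (.lt (nat_lit 1)) (.mul (.lt (nat_lit 0)) (.mul (.lt (nat_lit 6)) (.mul (.lt (nat_lit 0)) (.mul (.lt (nat_lit 5)) (.mul (.lt (nat_lit 4)) (.lt (nat_lit 3)))))))))))))))) (.mul (.lt (nat_lit 5)) (.mul (.lt (nat_lit 4)) (.mul (.lt (nat_lit 5)) (.mul (.lt (nat_lit 3)) (.mul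 (.lt (nat_lit 4)) (.mul (.lt (nat_lit 0)) (.mul (.lt (nat_lit 5)) (.mul (.lt (nat_lit 2)) (.mul (.lt (nat_lit 1)) (.mul (.lt (nat_lit 0)) (.mul (.lt (nat_lit 6)) (.mul (.lt (nat_lit 0)) (.mul (.lt (nat_lit 5)) (.mul (.lt (nat_lit 4)) (.lt (nat_lit 3)))))))))))))))), .mul (.inv (.mul (.lt (nat_lit 6)) (.mul (.lt (nat_lit 5)) (.mul (.lt (nat_lit 3)) (.mul (.lt (nat_lit 2)) (.mul (.lt (nat_lit 0)) (.lt (nat_lit 1)))))))) (.mul (.lt (nat_lit 2)) (.mul (.lt (nat_lit 6)) (.mul (.lt (nat_lit 5)) (.mul (.lt (nat_lit 3)) (.mul (.lt (nat_lit 2)) (.mul (.lt (nat_lit 0)) (.lt (nat_lit 1))))))))]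

/-- the orbit table of level 1 -/
noncomputable def tb1 : TT := .leaf (nat_lit 0xb0100003a0000db0a020000390000d209000000380000cd08040000370000c9070300002e0000c407040000340000b909020000330000b606030000280000b208000000310000b007030000250000ac070400002e0000aa070000002d0000a608030000230000a506010000290000a3060400002900009e06040000280000990903000012000098050400002700009705020000270000960501000021000091040000002400008f050400002100008b060100001e0000890305000016000087070100001a000085040400001f000083040200001f000082030400001d00007b030000001c00007a050200001b000079020000001900007302050000130000720400000018000071060200001700006d010500000f00006b030500001000006a05000000140000660200000013000064020500000e000063040500000c00005f010400000f00005c080100000d0000580305000009000057020400000e0000550000000000000054010200000f00004d070200000a00004a0304000009000048020000000e0000460600000008000043020100000e000041050500000400003b030100000b00003a04050000030000380402000007000034040400000300002903030000090000250403000007000022050300000500001f0601000001000017)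
/-- level 1 -/
noncomputable def lv1 : Lvl where
  b := nat_lit 84
  n := nat_lit 60
  t := fun k => TT.fld tb1 (nat_lit 64) (nat_lit 255) (nat_lit 18446744073709551615) k
  next := [.mul (.inv (.mul (.lt (nat_lit 1)) (.mul (.lt (nat_lit 3)) (.mul (.lt (nat_lit 2)) (.mul (.lt (nat_lit 1)) (.mul (.lt (nat_lit 0)) (.lt (nat_lit 2)))))))) (.mul (.lt (nat_lit 5)) (.mul (.lt (nat_lit 1)) (.mul (.lt (nat_lit 3)) (.mul (.lt (nat_lit 2)) (.mul (.lt (nat_lit 1)) (.mul (.lt (nat_lit 0)) (.lt (nat_lit 2)))))))), .mul (.inv (.mul (.lt (nat_lit 3)) (.mul (.lt (nat_lit 1)) (.mul (.lt (nat_lit 2)) (.mul (.lt (nat_lit 0)) (.mul (.lt (nat_lit 5)) (.mul (.lt (nat_lit 4)) (.mul (.lt (nat_lit 1)) (.lt (nat_lit 2)))))))))) (.mul (.lt (nat_lit 5)) (.mul (.lt (nat_lit 3)) (.mul (.lt (nat_lit 1)) (.mul (.lt (nat_lit 2)) (.mul (.lt (nat_lit 0)) (.mul (.lt (nat_lit 5)) (.mul (.lt (nat_lit 4)) (.mul (.lt (nat_lit 1)) (.lt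 (nat_lit 2)))))))))), .mul (.inv (.mul (.lt (nat_lit 4)) (.mul (.lt (nat_lit 2)) (.mul (.lt (nat_lit 0)) (.mul (.lt (nat_lit 5)) (.mul (.lt (nat_lit 0)) (.lt (nat_lit 4)))))))) (.mul (.lt (nat_lit 3)) (.mul (.lt (nat_lit 4)) (.mul (.lt (nat_lit 2)) (.mul (.lt (nat_lit 0)) (.mul (.lt (nat_lit 5)) (.mul (.lt (nat_lit 0)) (.lt (nat_lit 4)))))))), .mul (.inv (.mul (.lt (nat_lit 2)) (.mul (.lt (nat_lit 1)) (.mul (.lt (nat_lit 0)) (.lt (nat_lit 2)))))) (.mul (.lt (nat_lit 0)) (.mul (.lt (nat_lit 2)) (.mul (.lt (nat_lit 1)) (.mul (.lt (nat_lit 0)) (.lt (nat_lit 2)))))), .mul (.inv (.mul (.lt (nat_lit 5)) (.mul (.lt (nat_lit 0)) (.lt (nat_lit 4))))) (.mul (.lt (nat_lit 4)) (.mul (.lt (nat_lit 5)) (.mul (.lt (nat_lit 0)) (.lt (nat_lit 4)))))]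

/-- the orbit table of level 2 -/
noncomputable def tb2 : TT := .leaf (nat_lit 0x3030000160000db02020000130000d201020000110000c403020000100000b901010000110000b6020200000c0000a500000000000000a3020100000c00009903030000120000980103000011000096030300001000008b0100000011000085020300000c00006d040100000d000063040200000f000058030100000b000057020000000e000055030200000b00004a030000000b000048040200000800003804010000050000340402000005000029050200000300001f0603000001000017)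
/-- level 2 -/
noncomputable def lv2 : Lvl where
  b := nat_lit 163
  n := nat_lit 24
  t := fun k => TT.fld tb2 (nat_lit 64) (nat_lit 255) (nat_lit 18446744073709551615) k
  next := [.mul (.inv (.mul (.lt (nat_lit 3)) (.mul (.lt (nat_lit 2)) (.lt (nat_lit 0))))) (.mul (.lt (nat_lit 0)) (.mul (.lt (nat_lit 3)) (.mul (.lt (nat_lit 2)) (.lt (nat_lit 0))))), .mul (.inv (.lt (nat_lit 1))) (.mul (.lt (nat_lit 3)) (.lt (nat_lit 1))), .mul (.inv (.one)) (.mul (.lt (nat_lit 4)) (.one)), .mul (.inv (.mul (.lt (nat_lit 3)) (.mul (.lt (nat_lit 2)) (.lt (nat_lit 0))))) (.mul (.lt (nat_lit 1)) (.mul (.lt (nat_lit 3)) (.mul (.lt (nat_lit 2)) (.lt (nat_lit 0)))))]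

/-- the orbit table of level 3 -/
noncomputable def tb3 : TT := .leaf (nat_lit 0x1030000030000db02030000020000c402030000010000b603030000000000960000000000000085010100000300006301000000030000580201000001000038)
/-- level 3 -/
noncomputable def lv3 : Lvl where
  b := nat_lit 133
  n := nat_lit 8
  t := fun k => TT.fld tb3 (nat_lit 64) (nat_lit 255) (nat_lit 18446744073709551615) k
  next := [.mul (.inv (.lt (nat_lit 0))) (.mul (.lt (nat_lit 2)) (.lt (nat_lit 0)))]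

/-- the orbit table of level 4 -/
noncomputable def tb4 : TT := .leaf (nat_lit 0x100000000000011000000000000000e)
/-- level 4 -/
noncomputable def lv4 : Lvl where
  b := nat_lit 14
  n := nat_lit 2
  t := fun k => TT.fld tb4 (nat_lit 64) (nat_lit 255) (nat_lit 18446744073709551615) k
  next := []

/-- the chain -/
noncomputable def ls : List Lvl := [lv0, lv1, lv2, lv3, lv4]

theorem fix0 : fixAll (ev0 Cfsg.Agent.Lib.Compute.TC.MWE8.cfg) 0 next0 = true := by decide +kernel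

theorem chainOK : chainChk Cfsg.Agent.Lib.Compute.TC.MWE8.cfg.N ls (evN (ev0 Cfsg.Agent.Lib.Compute.TC.MWE8.cfg) next0) = true := by decide +kernel

theorem prodEq : Cfsg.Agent.Lib.Compute.TC.MWE8.cfg.N * (ls.map (·.n)).prod = 696729600 := by decide +kernel

end Cfsg.Agent.Lib.Compute.TC.MWE8C
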